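import Groth.Agent.RichLib.LimTop
import Groth.Agent.RichLib.LimitBaseChange
import Groth.Agent.ProConsLib.Sch

/-!
# Openness of constructible sets over the stages of an affine limit
-/

set_option autoImplicit false
set_option backward.isDefEq.respectTransparency false
set_option linter.style.haveILetI false
universe u

open CategoryTheory CategoryTheory.Limits AlgebraicGeometry TopologicalSpace Topology Set
open Groth.Agent.ProConsLib RichLib

noncomputable section

namespace NeutLimLib

variable {I : Type u} [SmallCategory I] [IsCofiltered I] {S : Scheme.{u}} (A : LimBC.Sys I S)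

/-- If the preimage on the limit of a locally constructible set is open, then so is the preimage at
some stage. -/
theorem exists_isOpen_preimage [CompactSpace S] [QuasiSeparatedSpace S] {N : Set S} (hN : IsConstructible N)
    (ho : IsOpen (A.s ⁻¹' N)) : ∃ i, IsOpen (A.t i ⁻¹' N) := by
  haveI : ∀ (i j : I) (a : i ⟶ j), IsAffineHom (A.D.map a) := fun _ _ a => A.affine_map a
  haveI := A.compactSpace_obj
  haveI := A.quasiSeparatedSpace_obj
  obtain ⟨i₀⟩ := (IsCofiltered.nonempty : Nonempty I)
  haveI := RichLib.LimTop.compactSpace_pt A.D A.c A.hc i₀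
  have hp := (isLocallyConstructible_iff_ind_and_pro.mp hN.isLocallyConstructible).2
  have hc : IsCompact (A.s ⁻¹' N) :=
    RichLib.LimTop.isCompact_of_isOpen_of_isProConstructible A.D A.c A.hc ho (isProConstructible_preimage A.s hp)
  obtain ⟨j, -, V, hV, hVe⟩ := RichLib.LimTop.exists_preimage_eq_over A.D A.c A.hc i₀ ⟨_, ho⟩ hc
  let M : Set (A.D.obj j) := A.t j ⁻¹' N
  have hM : IsConstructible M := (A.t j).isConstructible_preimage hN
  have hV' : IsConstructible (V : Set (A.D.obj j)) := hV.isConstructible V.2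
  have hE : ProCons.IsIndConstructible {x | x ∈ M ↔ x ∈ V} := by
    have e : {x | x ∈ M ↔ x ∈ V} = (M ∩ (V : Set (A.D.obj j))) ∪ (Mᶜ ∩ (V : Set (A.D.obj j))ᶜ) := by
      ext x; simp only [Set.mem_setOf_eq, Set.mem_union, Set.mem_inter_iff, Set.mem_compl_iff, SetLike.mem_coe]; tauto
    rw [e]
    exact (isLocallyConstructible_iff_ind_and_pro.mp
      ((hM.inter hV').union (hM.compl.inter hV'.compl)).isLocallyConstructible).1
  obtain ⟨k, a, hk⟩ := RichLib.LimTop.exists_inter_range_subset' A.D A.c A.hc hE (by
    rintro _ ⟨y, rfl⟩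
    show A.t j (A.c.π.app j y) ∈ N ↔ A.c.π.app j y ∈ V
    rw [← Scheme.Hom.comp_apply, A.hs j]
    exact (Set.ext_iff.mp (congrArg SetLike.coe hVe) y).symm)
  refine ⟨k, ?_⟩
  have e : A.t k ⁻¹' N = A.D.map a ⁻¹' (V : Set (A.D.obj j)) := Set.ext fun z => by
    rw [← A.w a]
    exact hk ⟨z, rfl⟩
  rw [e]
  exact V.2.preimage (A.D.map a).continuous

end NeutLimLib
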